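import Groth.Agent.L05.TameTower.Main
import Mathlib.RingTheory.Unramified.LocalRing
import Mathlib.RingTheory.EssentialFiniteness
import Mathlib.RingTheory.TensorProduct.Basic

/-! # Unramified extensions are stable under change of the discrete valuation ring -/

set_option autoImplicit false
set_option linter.style.haveILetI false
set_option maxSynthPendingDepth 3

universe u

open IsLocalRing TensorProduct

namespace Groth.L05.UnramBaseChange

open EtRam

/-- A local valuation ring inside a valuation subring with the same fraction field is all of it. -/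
theorem surjective_of_local {T L : Type u} [CommRing T] [IsDomain T] [ValuationRing T] [Field L]
    (V : ValuationSubring L) (ψ : T →+* V) [IsLocalHom ψ]
    (hfrac : ∀ x : L, ∃ a b : T, (ψ b : L) ≠ 0 ∧ x * ψ b = ψ a) : Function.Surjective ψ := by
  intro x
  obtain ⟨a, b, hb, hab⟩ := hfrac x
  obtain ⟨c, hc⟩ := ValuationRing.cond a b
  rcases hc with hc | hc
  · have h : x * ψ c * ψ a = 1 * ψ a := by
      refine Subtype.ext ?_
      show (x : L) * ψ c * ψ a = 1 * ψ a
      have e : (ψ a : L) * ψ c = ψ b := by rw [← hc, map_mul]; rfl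
      rw [one_mul, mul_assoc, mul_comm (ψ c : L), e, hab]
    by_cases ha : ψ a = 0
    · exact absurd (by rw [← hc, map_mul, ha, zero_mul]; rfl) hb
    have hu : IsUnit (ψ c) := IsUnit.of_mul_eq_one _ ((mul_comm _ _).trans (mul_right_cancel₀ ha h))
    obtain ⟨d, rfl⟩ := (isUnit_of_map_unit ψ c hu)
    refine ⟨(d⁻¹ : Tˣ), mul_right_cancel₀ hu.ne_zero ?_⟩
    rw [← map_mul, Units.inv_mul, map_one, mul_right_cancel₀ ha h]
  · refine ⟨c, Subtype.ext (mul_right_cancel₀ hb ?_)⟩
    rw [hab, ← hc, map_mul, mul_comm]
    rfl

/-- The valuation rings of a finite separable extension over a discrete valuation ring are essentially of finite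
type. -/
theorem essFiniteType_of_dominates (A K L : Type u) [CommRing A] [IsDomain A] [IsDiscreteValuationRing A] [Field K]
    [Algebra A K] [IsFractionRing A K] [Field L] [Algebra K L] [FiniteDimensional K L] [Algebra.IsSeparable K L]
    [Algebra A L] [IsScalarTower A K L] (V : ValuationSubring L) [Algebra A V] [IsScalarTower A V L]
    [IsLocalHom (algebraMap A V)] : Algebra.EssFiniteType A V := by
  let C := integralClosure A L
  haveI : IsDedekindDomain C := integralClosure.isDedekindDomain A K L
  haveI : IsFractionRing C L := integralClosure.isFractionRing_of_finite_extension K L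
  haveI : Module.Finite A C := IsIntegralClosure.finite A K L C
  have hCV : ∀ x : C, (x : L) ∈ V := fun x => by
    obtain ⟨y, hy⟩ := IsIntegrallyClosedIn.isIntegral_iff.mp ((x.2 : IsIntegral A (x : L)).tower_top (A := V))
    exact hy ▸ y.2
  let ι : C →ₐ[A] V :=
    { toFun := fun x => ⟨x, hCV x⟩
      map_one' := rfl
      map_mul' := fun _ _ => rfl
      map_zero' := rfl
      map_add' := fun _ _ => rfl
      commutes' := fun r => Subtype.ext (IsScalarTower.algebraMap_apply A V L r) }
  letI : Algebra C V := ι.toRingHom.toAlgebra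
  haveI : IsScalarTower A C V := IsScalarTower.of_algebraMap_eq fun r => (ι.commutes r).symm
  let P := (maximalIdeal V).comap ι.toRingHom
  have hP0 : P ≠ ⊥ := by
    obtain ⟨π, hπ⟩ := IsDiscreteValuationRing.exists_irreducible A
    intro h
    have h1 : algebraMap A C π ∈ P := by
      show ι (algebraMap A C π) ∈ maximalIdeal V
      rw [ι.commutes, mem_maximalIdeal, mem_nonunits_iff, isUnit_map_iff]
      exact hπ.not_isUnit
    rw [h, Ideal.mem_bot] at h1
    exact hπ.ne_zero ((algebraMap K L).injective.comp (IsFractionRing.injective A K) (by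
      show algebraMap K L (algebraMap A K π) = algebraMap K L (algebraMap A K 0)
      rw [← IsScalarTower.algebraMap_apply, map_zero, map_zero]
      exact congrArg Subtype.val h1))
  let T := Localization.AtPrime P
  haveI : IsDiscreteValuationRing T := IsLocalization.AtPrime.isDiscreteValuationRing_of_dedekind_domain C hP0 T
  let ψ : T →+* V := IsLocalization.lift (M := P.primeCompl) (g := ι.toRingHom) fun s => by
    by_contra h
    exact s.2 ((mem_maximalIdeal _).mpr h)
  have hψ : ∀ c : C, ψ (algebraMap C T c) = ι c := IsLocalization.lift_eq _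
  haveI : IsLocalHom ψ := by
    refine ⟨fun t ht => ?_⟩
    obtain ⟨a, s, rfl⟩ := IsLocalization.exists_mk'_eq P.primeCompl t
    rw [IsLocalization.AtPrime.isUnit_mk'_iff]
    intro ha
    have h1 : ψ (IsLocalization.mk' T a s) * ψ (algebraMap C T s) = ι a := by
      rw [← map_mul, IsLocalization.mk'_spec, hψ]
    exact (mem_maximalIdeal _).mp ha (h1 ▸ ht.mul ((IsLocalization.map_units T s).map ψ) : IsUnit (ι a))
  have hsurj : Function.Surjective ψ := by
    refine surjective_of_local V ψ fun x => ?_
    obtain ⟨⟨a, b⟩, hab⟩ := IsLocalization.surj (nonZeroDivisors C) x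
    refine ⟨algebraMap C T a, algebraMap C T b.1, ?_, ?_⟩
    · rw [hψ]
      exact fun h => nonZeroDivisors.coe_ne_zero b (Subtype.ext h)
    · rw [hψ, hψ]; exact hab
  letI : Algebra T V := ψ.toAlgebra
  haveI : IsScalarTower C T V := IsScalarTower.of_algebraMap_eq fun c => (hψ c).symm
  haveI : IsScalarTower A T V := IsScalarTower.to₁₃₄ A C T V
  haveI : Algebra.EssFiniteType C T := Algebra.EssFiniteType.of_isLocalization T P.primeCompl
  haveI : Algebra.EssFiniteType A T := Algebra.EssFiniteType.comp A C T
  haveI : Algebra.EssFiniteType T V := by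
    haveI : Module.Finite T V := Module.Finite.of_surjective (Algebra.linearMap T V) hsurj
    infer_instance
  exact Algebra.EssFiniteType.comp A T V

theorem isUnramifiedExt_factor (A B K L K' : Type u) [CommRing A] [IsDomain A]
    [IsDiscreteValuationRing A] [CommRing B] [IsDomain B] [IsDiscreteValuationRing B] [Algebra A B]
    [IsLocalHom (algebraMap A B)]
    [Field K] [Field L] [Field K'] [Algebra A K] [IsFractionRing A K] [Algebra B L] [IsFractionRing B L]
    [Algebra K L] [Algebra A L] [IsScalarTower A K L] [IsScalarTower A B L]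
    [Algebra K K'] [FiniteDimensional K K'] [Algebra.IsSeparable K K']
    (h : EtRam.IsUnramifiedExt A ((algebraMap K K').comp (algebraMap A K)))
    (F : Type u) [Field F] [Algebra (K' ⊗[K] L) F] (hF : Function.Surjective (algebraMap (K' ⊗[K] L) F)) :
    EtRam.IsUnramifiedExt B ((algebraMap (K' ⊗[K] L) F).comp
      ((Algebra.TensorProduct.includeRight : L →ₐ[K] K' ⊗[K] L).toRingHom.comp (algebraMap B L))) := by
  intro V hV
  letI : Algebra B V := (RingHom.codRestrict _ V hV.1).toAlgebra
  intro _
  let gK' : K' →+* F := (algebraMap (K' ⊗[K] L) F).comp Algebra.TensorProduct.includeLeftRingHom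
  let gL : L →+* F := (algebraMap (K' ⊗[K] L) F).comp
    (Algebra.TensorProduct.includeRight : L →ₐ[K] K' ⊗[K] L).toRingHom
  have hK : ∀ k : K, gK' (algebraMap K K' k) = gL (algebraMap K L k) := fun k => by
    show algebraMap (K' ⊗[K] L) F _ = algebraMap (K' ⊗[K] L) F _
    congr 1
    show algebraMap K K' k ⊗ₜ[K] (1 : L) = (1 : K') ⊗ₜ[K] algebraMap K L k
    rw [Algebra.algebraMap_eq_smul_one, Algebra.algebraMap_eq_smul_one, TensorProduct.smul_tmul]
  letI : Algebra A K' := ((algebraMap K K').comp (algebraMap A K)).toAlgebra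
  haveI : IsScalarTower A K K' := IsScalarTower.of_algebraMap_eq fun _ => rfl
  have hA : ∀ a : A, gK' (algebraMap A K' a) = gL (algebraMap B L (algebraMap A B a)) := fun a =>
    (hK _).trans (by rw [← IsScalarTower.algebraMap_apply A K L, ← IsScalarTower.algebraMap_apply A B L])
  let V' := V.comap gK'
  have hV' : Dominates A ((algebraMap K K').comp (algebraMap A K)) V' := by
    refine ⟨fun a => ?_, fun a ha => ?_⟩
    · show gK' (algebraMap A K' a) ∈ V
      rw [hA]; exact hV.1 _
    · have h1 : algebraMap A B a ∈ maximalIdeal B := by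
        rw [mem_maximalIdeal, mem_nonunits_iff, isUnit_map_iff]; exact ha
      have h2 := hV.2 _ h1
      refine (ValuationSubring.valuation_lt_one_iff V' ⟨_, ?_⟩).mp ?_
      · show gK' (algebraMap A K' a) ∈ V
        rw [hA]; exact hV.1 _
      rw [mem_maximalIdeal]
      intro hu
      have h3 := hu.map (inclOfComap V gK')
      refine (mem_maximalIdeal _).mp ((ValuationSubring.valuation_lt_one_iff V ⟨_, hV.1 _⟩).mpr h2) ?_
      refine cast (congrArg IsUnit ?_) h3
      exact Subtype.ext (hA a)
  letI : Algebra A V' := (RingHom.codRestrict _ V' hV'.1).toAlgebra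
  haveI : IsLocalHom (algebraMap A V') := Groth.L05.TameTower.isLocalHom_codRestrict _ V' hV'
  haveI : IsScalarTower A V' K' := IsScalarTower.of_algebraMap_eq fun _ => rfl
  obtain ⟨hwu, hsep⟩ := h V' hV'
  haveI := hsep
  haveI : Algebra.EssFiniteType A V' := essFiniteType_of_dominates A K K' V'
  haveI : Algebra.FormallyUnramified A V' := Algebra.FormallyUnramified.of_map_maximalIdeal hwu
  letI : Algebra A V := ((algebraMap B V).comp (algebraMap A B)).toAlgebra
  haveI : IsScalarTower A B V := IsScalarTower.of_algebraMap_eq fun _ => rfl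
  let R := B ⊗[A] V'
  let ι' : V' →ₐ[A] V := { inclOfComap V gK' with commutes' := fun a => Subtype.ext (hA a) }
  let ψ : R →ₐ[B] V := Algebra.TensorProduct.lift (Algebra.ofId B V) ι' fun _ _ => Commute.all _ _
  let Q := (maximalIdeal V).comap ψ.toRingHom
  let RQ := Localization.AtPrime Q
  let φ : RQ →+* V := IsLocalization.lift (M := Q.primeCompl) (g := ψ.toRingHom) fun s => by
    by_contra h
    exact s.2 ((mem_maximalIdeal _).mpr h)
  have hφ : ∀ r : R, φ (algebraMap R RQ r) = ψ r := IsLocalization.lift_eq _
  letI : Algebra RQ V := φ.toAlgebra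
  haveI : IsScalarTower B RQ V := IsScalarTower.of_algebraMap_eq fun b => by
    show algebraMap B V b = φ (algebraMap B RQ b)
    rw [IsScalarTower.algebraMap_apply B R RQ, hφ, ψ.commutes]
  haveI : IsLocalHom (algebraMap RQ V) := by
    refine ⟨fun t ht => ?_⟩
    obtain ⟨a, s, rfl⟩ := IsLocalization.exists_mk'_eq Q.primeCompl t
    rw [IsLocalization.AtPrime.isUnit_mk'_iff]
    intro ha
    have h1 : φ (IsLocalization.mk' RQ a s) * φ (algebraMap R RQ s) = ψ a := by
      rw [← map_mul, IsLocalization.mk'_spec, hφ]
    exact (mem_maximalIdeal _).mp ha (h1 ▸ ht.mul ((IsLocalization.map_units RQ s).map φ) : IsUnit (ψ a))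
  haveI : IsLocalHom (algebraMap B RQ) := ⟨fun b hb => by
    have := hb.map (algebraMap RQ V)
    rw [← IsScalarTower.algebraMap_apply] at this
    exact isUnit_of_map_unit (algebraMap B V) b this⟩
  haveI : Algebra.FormallyUnramified R RQ := Algebra.FormallyUnramified.of_isLocalization Q.primeCompl
  haveI : Algebra.FormallyUnramified B RQ := Algebra.FormallyUnramified.comp B R RQ
  haveI : Algebra.EssFiniteType R RQ := Algebra.EssFiniteType.of_isLocalization RQ Q.primeCompl
  haveI : Algebra.EssFiniteType B RQ := Algebra.EssFiniteType.comp B R RQ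
  haveI : IsNoetherianRing RQ := Algebra.EssFiniteType.isNoetherianRing B RQ
  obtain ⟨ϖ, hϖ⟩ := IsDiscreteValuationRing.exists_irreducible B
  have hmaxQ : maximalIdeal RQ = Ideal.span {algebraMap B RQ ϖ} := by
    rw [← Algebra.FormallyUnramified.map_maximalIdeal (R := B) (S := RQ), hϖ.maximalIdeal_eq, Ideal.map_span,
      Set.image_singleton]
  let T := RQ ⧸ RingHom.ker φ
  haveI : (RingHom.ker φ).IsPrime := RingHom.ker_isPrime φ
  haveI : IsLocalRing T := IsLocalRing.of_surjective' _ Ideal.Quotient.mk_surjective
  have hmaxT : maximalIdeal T = Ideal.span {Ideal.Quotient.mk _ (algebraMap B RQ ϖ)} := by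
    rw [← IsLocalRing.map_maximalIdeal_of_surjective _ Ideal.Quotient.mk_surjective, hmaxQ, Ideal.map_span,
      Set.image_singleton]
  have hinj : Function.Injective gL := gL.injective
  have hϖ0 : Ideal.Quotient.mk (RingHom.ker φ) (algebraMap B RQ ϖ) ≠ 0 := fun h => by
    rw [Ideal.Quotient.eq_zero_iff_mem, RingHom.mem_ker] at h
    have h1 : algebraMap B V ϖ = 0 := by rw [IsScalarTower.algebraMap_apply B RQ V]; exact h
    exact hϖ.ne_zero (IsFractionRing.injective B L (hinj ((congrArg Subtype.val h1).trans (by simp))))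
  have hTfield : ¬ IsField T := fun hf => by
    have := (IsLocalRing.isField_iff_maximalIdeal_eq).mp hf
    rw [hmaxT, Ideal.span_singleton_eq_bot] at this
    exact hϖ0 this
  haveI : IsDiscreteValuationRing T := (IsDiscreteValuationRing.TFAE T hTfield).out 4 0 (by rfl) (by rfl)
    |>.mp (⟨⟨_, hmaxT⟩⟩ : (maximalIdeal T).IsPrincipal)
  let φT : T →+* V := Ideal.Quotient.lift _ φ fun a ha => ha
  haveI : IsLocalHom φT := ⟨fun t ht => by
    obtain ⟨r, rfl⟩ := Ideal.Quotient.mk_surjective t
    exact (isUnit_of_map_unit (algebraMap RQ V) r ht).map _⟩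
  have hsurjT : Function.Surjective φT := by
    refine surjective_of_local V φT fun x => ?_
    let S : Subring F := (V.subtype.comp φT).range
    have hmem : ∀ z, x = z → z ∈ Subfield.closure (S : Set F) := by
      rintro z -
      obtain ⟨w, rfl⟩ := hF z
      induction w using TensorProduct.induction_on with
      | zero => rw [map_zero]; exact zero_mem _
      | add a b ha hb => rw [map_add]; exact add_mem ha hb
      | tmul z l =>
        rw [← mul_one z, ← one_mul l, ← Algebra.TensorProduct.tmul_mul_tmul, map_mul]
        refine mul_mem ?_ ?_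
        · have key : ∀ v : V', gK' v ∈ S := fun v =>
            ⟨Ideal.Quotient.mk _ (algebraMap R RQ (1 ⊗ₜ v)), by
              show (φ (algebraMap R RQ (1 ⊗ₜ v)) : F) = _
              rw [hφ, Algebra.TensorProduct.lift_tmul, map_one, one_mul]
              rfl⟩
          rcases V'.mem_or_inv_mem z with hz | hz
          · exact Subfield.subset_closure (key ⟨z, hz⟩)
          · have h1 := inv_mem (Subfield.subset_closure (key ⟨z⁻¹, hz⟩))
            rw [map_inv₀, inv_inv] at h1
            exact h1
        · have key : ∀ b : B, gL (algebraMap B L b) ∈ S := fun b =>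
            ⟨Ideal.Quotient.mk _ (algebraMap B RQ b), by
              show (φ (algebraMap B RQ b) : F) = _
              rw [show φ (algebraMap B RQ b) = algebraMap B V b from
                (IsScalarTower.algebraMap_apply B RQ V b).symm]
              rfl⟩
          obtain ⟨a, b, -, rfl⟩ := IsFractionRing.div_surjective (A := B) l
          show gL _ ∈ _
          rw [map_div₀]
          exact div_mem (Subfield.subset_closure (key a)) (Subfield.subset_closure (key b))
    obtain ⟨y, hy, z, hz, hyz⟩ := Subfield.mem_closure_iff.mp (hmem x rfl)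
    rw [Subring.closure_eq] at hy hz
    obtain ⟨a, rfl⟩ := hy
    obtain ⟨b, rfl⟩ := hz
    by_cases hb : (φT b : F) = 0
    · refine ⟨0, 1, by simp, ?_⟩
      rw [← hyz]
      simp [hb]
    · exact ⟨a, b, hb, by rw [← hyz]; exact div_mul_cancel₀ _ hb⟩
  have hsurj : Function.Surjective (algebraMap RQ V) := fun v => by
    obtain ⟨t, rfl⟩ := hsurjT v
    obtain ⟨r, rfl⟩ := Ideal.Quotient.mk_surjective t
    exact ⟨r, rfl⟩
  refine ⟨?_, ?_⟩
  · show (maximalIdeal B).map (algebraMap B V) = maximalIdeal V
    rw [IsScalarTower.algebraMap_eq B RQ V, ← Ideal.map_map, Algebra.FormallyUnramified.map_maximalIdeal,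
      IsLocalRing.map_maximalIdeal_of_surjective _ hsurj]
  · haveI : Algebra.IsSeparable (ResidueField B) (ResidueField RQ) := inferInstance
    exact AlgEquiv.Algebra.isSeparable (AlgEquiv.ofBijective (IsScalarTower.toAlgHom (ResidueField B) (ResidueField RQ) (ResidueField V))
      ⟨RingHom.injective (algebraMap (ResidueField RQ) (ResidueField V)), fun y => by
        obtain ⟨v, rfl⟩ := residue_surjective y
        obtain ⟨r, rfl⟩ := hsurj v
        exact ⟨residue RQ r, rfl⟩⟩)

end Groth.L05.UnramBaseChange
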